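import Cfsg.Agent.H310.R2.Proj
import Cfsg.Agent.H151.OC.Ss
import Cfsg.Agent.H770.CY.Defs
import Cfsg.Agent.H678.Constit

/-!
# S4829, `Row2`, `q` even: the general theorem for a stable set of nodes (helper310)

`Dat J Φ` : `Φ` an irreducible character of `P_J` of odd degree, fixed by the power maps and the standard automorphisms, which
is cuspidal on `L_J` or contains a linear character of `B` trivial on `U`.

* `exists_xi` : `Ind Φ` has exactly one constituent of odd degree;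
* `row2_of_dat` : `Row2 Y` if `J` is stable under the automorphisms.
-/

set_option autoImplicit false
set_option linter.unusedSectionVars false

open scoped ComplexConjugate MatrixGroups
open Cfsg

namespace Cfsg.Agent.H310.R2

open Cfsg.Agent.Characters Cfsg.Agent.H770.CY
open Cfsg.Agent.H53.HC Cfsg.Agent.H554.RG Cfsg.Agent.KFacts.RgdAut Cfsg.Agent.KFacts.RgdDiag
  Cfsg.Agent.H641.Gow Cfsg.Agent.H148.GG Cfsg.Agent.H743.GG Cfsg.Agent.H40.OC Cfsg.Agent.H151.OC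

open CoxeterSystem Cfsg.Agent.ChevalleyStructure.CoxeterGeom Cfsg.Agent.Tits.Roots Cfsg.Agent.Tits.Core
  Cfsg.Agent.Tits.Exchange Cfsg.Agent.Nodes.Reps Cfsg.Agent.Nodes.BNOf Cfsg.Agent.Nodes.StabComb
  Cfsg.Agent.Nodes.Bruhat Cfsg.Agent.Nodes.OppDec Cfsg.Agent.Nodes.LeviDec

universe u

section Gen

variable {G : Type*} [Group G] [Fintype G]

/-- constituents of a restriction along a homomorphism -/
theorem comp_ne_zero {H : Type*} [Group H] [Fintype H] (f : H →* G) {χ Φ : G → ℂ} (hχ : IsCharacter G χ)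
    (hΦ : IsIrrCharacter G Φ) (h1 : classInner χ Φ ≠ 0) {lam : H → ℂ} (hl : IsCharacter H lam)
    (h2 : classInner (Φ ∘ f) lam ≠ 0) : classInner (χ ∘ f) lam ≠ 0 := by
  classical
  have : Finite (IrrCharacter G) := Core.finite_irr
  let _ : Fintype (IrrCharacter G) := Fintype.ofFinite _
  have e1 := Core.classFunction_eq_sum (Core.isCharacter_isClassFunction hχ)
  have e2 : χ ∘ f = ∑ ψ : IrrCharacter G, classInner χ (ψ : G → ℂ) • ((ψ : G → ℂ) ∘ f) := by
    funext x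
    rw [Finset.sum_apply, Function.comp_apply]
    conv_lhs => rw [e1]
    rw [Finset.sum_apply]
    rfl
  choose a ha using fun ψ : IrrCharacter G => Core.classInner_isNat hχ (Core.isIrr_isCharacter ψ.2)
  choose b hb using fun ψ : IrrCharacter G => Core.classInner_isNat (Core.isCharacter_comp f (Core.isIrr_isCharacter ψ.2)) hl
  have e3 : classInner (χ ∘ f) lam = ((∑ ψ : IrrCharacter G, a ψ * b ψ : ℕ) : ℂ) := by
    rw [e2, Core.classInner_sum_left]
    push_cast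
    refine Finset.sum_congr rfl fun ψ _ => ?_
    rw [Core.classInner_smul_left, ha, hb]
  rw [e3, Nat.cast_ne_zero]
  have h3 : a ⟨Φ, hΦ⟩ ≠ 0 := by
    intro h0
    apply h1
    have := ha ⟨Φ, hΦ⟩
    rw [h0, Nat.cast_zero] at this
    exact this
  have h4 : b ⟨Φ, hΦ⟩ ≠ 0 := by
    intro h0
    apply h2
    have := hb ⟨Φ, hΦ⟩
    rw [h0, Nat.cast_zero] at this
    exact this
  have h5 := Finset.single_le_sum (f := fun ψ : IrrCharacter G => a ψ * b ψ) (fun _ _ => Nat.zero_le _)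
    (Finset.mem_univ (⟨Φ, hΦ⟩ : IrrCharacter G))
  have h6 : 0 < a ⟨Φ, hΦ⟩ * b ⟨Φ, hΦ⟩ := Nat.mul_pos (Nat.pos_of_ne_zero h3) (Nat.pos_of_ne_zero h4)
  exact (lt_of_lt_of_le h6 h5).ne'

/-- a character of odd degree has a constituent of odd degree -/
theorem exists_odd {Θ : G → ℂ} (hΘ : IsCharacter G Θ) {d : ℕ} (hd : Odd d) (h1 : Θ 1 = d) :
    ∃ χ : IrrCharacter G, classInner Θ (χ : G → ℂ) ≠ 0 ∧ ¬ 2 ∣ charDegree (χ : G → ℂ) := by
  classical
  have : Finite (IrrCharacter G) := Core.finite_irr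
  let _ : Fintype (IrrCharacter G) := Fintype.ofFinite _
  by_contra hcon
  push Not at hcon
  choose a ha using fun ψ : IrrCharacter G => Core.classInner_isNat hΘ (Core.isIrr_isCharacter ψ.2)
  choose e he using fun ψ : IrrCharacter G => Core.isCharacter_apply_one (Core.isIrr_isCharacter ψ.2)
  have e1 := congrFun (Core.classFunction_eq_sum (Core.isCharacter_isClassFunction hΘ)) 1
  rw [h1, Finset.sum_apply] at e1
  have e2 : (d : ℂ) = ((∑ ψ : IrrCharacter G, a ψ * e ψ : ℕ) : ℂ) := by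
    rw [e1]
    push_cast
    refine Finset.sum_congr rfl fun ψ _ => ?_
    rw [Pi.smul_apply, smul_eq_mul, ha, he]
  have e3 : d = ∑ ψ : IrrCharacter G, a ψ * e ψ := by exact_mod_cast e2
  have h2 : 2 ∣ d := by
    rw [e3]
    refine Finset.dvd_sum fun ψ _ => ?_
    by_cases h0 : classInner Θ (ψ : G → ℂ) = 0
    · rw [ha, Nat.cast_eq_zero] at h0
      rw [h0, zero_mul]
      exact dvd_zero _
    · have h3 := hcon ψ h0
      rw [Cfsg.Agent.Blocks.Basic.charDegree_of_eq (he ψ)] at h3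
      exact Dvd.dvd.mul_left h3 _
  rw [← Nat.not_even_iff_odd, even_iff_two_dvd] at hd
  exact hd h2

end Gen

variable {I W : Type*} {Y : Type u} [Fintype I] [DecidableEq I] [Group W] [Group Y] {M : CoxeterMatrix I}
  {cs : CoxeterSystem M W} {A : I → I → ℤ} {h : IsCartan M A} {T : Subgroup Y} {n : I → Y}
  {X : (I → ℤ) → Subgroup Y}

/-- the data on `P_J` -/
structure Dat (cs : CoxeterSystem M W) (h : IsCartan M A) (T : Subgroup Y) (X : (I → ℤ) → Subgroup Y) (J : Set I)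
    (Φ : ↥(PJ cs h T X J) → ℂ) : Prop where
  irr : IsIrrCharacter _ Φ
  ne : Φ ≠ fun _ => 1
  odd : ∃ d : ℕ, Odd d ∧ Φ 1 = d
  pow : ∀ k : ℕ, k.Coprime (Nat.card Y) → ∀ x, Φ (x ^ k) = Φ x
  inv : ∀ (β : MulAut Y) (σ : Equiv.Perm I), Std cs h T X β σ → σ '' J = J → ∀ x (hx : x ∈ PJ cs h T X J)
    (hx' : β x ∈ PJ cs h T X J), Φ ⟨β x, hx'⟩ = Φ ⟨x, hx⟩
  cas : (IsIrrCharacter _ (fun l : ↥(LJ cs h T X J) => Φ ⟨l, LJ_le_PJ l.2⟩) ∧
      CuspL cs h T X J (fun l : ↥(LJ cs h T X J) => Φ ⟨l, LJ_le_PJ l.2⟩) ∧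
      ∀ l (hl : l ∈ LJ cs h T X J) v (hv : v ∈ VJ cs h X J),
        Φ ⟨l * v, mul_mem (LJ_le_PJ hl) (VJ_le_PJ hv)⟩ = Φ ⟨l, LJ_le_PJ hl⟩) ∨
    ∃ lam : ↥(RGD.B cs h T X) →* ℂˣ, (∀ u (hu : u ∈ RGD.Sup X (RGD.Pos cs h)), lam ⟨u, RGD.U_le_B hu⟩ = 1) ∧
      ∀ [Fintype ↥(RGD.B cs h T X)], classInner (fun b : ↥(RGD.B cs h T X) => Φ ⟨b, B_le_PJ b.2⟩)
        (fun b => ((lam b : ℂˣ) : ℂ)) ≠ 0

variable (R : RGD cs h 2 T n X) {F : I → Type*} [∀ i, Field (F i)] (D : Adj T X F)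

include R in
theorem odd_index [Finite W] [Finite Y] (hG : GG cs h T X = ⊤) (J : Set I) : Odd (PJ cs h T X J).index := by
  have : Fact (Nat.Prime 2) := ⟨Nat.prime_two⟩
  obtain ⟨P, hP⟩ := exists_sylow R hG
  have h1 : (P : Subgroup Y) ≤ PJ cs h T X J := by
    rw [hP]
    exact RGD.U_le_B.trans B_le_PJ
  have h2 : ¬ 2 ∣ (P : Subgroup Y).index := P.not_dvd_index
  rw [← Nat.not_even_iff_odd, even_iff_two_dvd]
  exact fun h3 => h2 (h3.trans (Subgroup.index_dvd_of_le h1))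

/-- **exactly one constituent of odd degree** -/
theorem exists_xi [Finite W] [Fintype Y] [∀ i, Finite (F i)] (hG : GG cs h T X = ⊤)
    (hT : ∀ t : T, (∀ i, D.a i t = 1) → t = 1) (hm : MultOne cs h T X)
    (hN : ∀ f : ↥(UU cs h X) →* ℂˣ, ∀ u, (∀ i, co R D i u = 1) → f u = 1) {J : Set I}
    {Φ : ↥(PJ cs h T X J) → ℂ} (H : Dat cs h T X J Φ) :
    ∃ ξ : IrrCharacter Y, classInner (indFun (PJ cs h T X J) Φ) (ξ : Y → ℂ) ≠ 0 ∧ ¬ 2 ∣ charDegree (ξ : Y → ℂ) ∧
      ∀ χ : IrrCharacter Y, classInner (indFun (PJ cs h T X J) Φ) (χ : Y → ℂ) ≠ 0 → ¬ 2 ∣ charDegree (χ : Y → ℂ) →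
        χ = ξ := by
  classical
  have : Fact (Nat.Prime 2) := ⟨Nat.prime_two⟩
  have hΘ : IsCharacter Y (indFun (PJ cs h T X J) Φ) := Brauer.isCharacter_indFun _ (Core.isIrr_isCharacter H.irr)
  obtain ⟨d, hd, hd1⟩ := H.odd
  have hΘ1 : indFun (PJ cs h T X J) Φ 1 = (((PJ cs h T X J).index * d : ℕ) : ℂ) := by
    rw [Cfsg.Agent.H678.Constit.indFun_one, hd1]
    push_cast
    rfl
  have hodd : Odd ((PJ cs h T X J).index * d) := (odd_index R hG J).mul hd
  rcases H.cas with ⟨h1, h2, h3⟩ | ⟨lam, hl, hlam⟩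
  · have e : HC R J (fun l : ↥(LJ cs h T X J) => Φ ⟨l, LJ_le_PJ l.2⟩) = indFun (PJ cs h T X J) Φ := by
      unfold HC
      congr 1
      funext ⟨x, hx⟩
      obtain ⟨l, hl, v, hv, rfl⟩ := (mem_PJ R).1 hx
      have e1 : (⟨l * v, hx⟩ : PJ cs h T X J) = ⟨l, LJ_le_PJ hl⟩ * ⟨v, VJ_le_PJ hv⟩ := rfl
      rw [Function.comp_apply, e1, map_mul, projL_L R hl, projL_V R hv, mul_one]
      exact (h3 l hl v hv).symm
    obtain ⟨ψ, hψ⟩ := exists_nd R D
    have : Fintype ↥(UJ cs h X J) := Fintype.ofFinite _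
    have : Fintype ↥J := Fintype.ofFinite _
    obtain ⟨ξ, k1, k2, k3⟩ := uniq_deg R D hG hT hm hN hψ J h1 h2 (by
      intro h0
      obtain ⟨c, d', hc, hd', hcd⟩ := mG_congr R D hN hΘ
      rw [← e, mG_HC R D hG J (Core.isIrr_isClassFunction h1), mJ_cusp R D (hψ.res (J := J)) (Core.isIrr_isCharacter h1) h2]
        at hc
      have h4 : (c : ℂ) = 0 := by
        rw [← hc]
        exact mul_eq_zero_of_right _ h0
      rw [Int.cast_eq_zero] at h4
      rw [h4, sub_zero] at hcd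
      rw [hΘ1, Nat.cast_inj] at hd'
      rw [← hd', Int.natCast_dvd_natCast] at hcd
      rw [← Nat.not_even_iff_odd, even_iff_two_dvd] at hodd
      exact hodd (by exact_mod_cast hcd))
    rw [e] at k1 k3
    exact ⟨ξ, by rw [k1]; exact one_ne_zero, k2, k3⟩
  · obtain ⟨ξ, k1, k2, k3⟩ := uniq_B R D hG hT hm hN lam hl
    have : Fintype ↥(RGD.B cs h T X) := Fintype.ofFinite _
    have : Fintype ↥(PJ cs h T X J) := Fintype.ofFinite _
    have key : ∀ χ : IrrCharacter Y, classInner (indFun (PJ cs h T X J) Φ) (χ : Y → ℂ) ≠ 0 →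
        classInner (indFun (RGD.B cs h T X) fun b => ((lam b : ℂˣ) : ℂ)) (χ : Y → ℂ) ≠ 0 := by
      intro χ hχ
      have hc := Core.isIrr_isClassFunction χ.2
      rw [Cfsg.Agent.OddOrderCharacters.Clifford.classInner_indFun _ _ _ hc] at hχ ⊢
      rw [← Core.classInner_conj_symm, Ne, map_eq_zero] at hχ ⊢
      exact comp_ne_zero (Subgroup.inclusion (B_le_PJ (cs := cs) (h := h) (T := T) (X := X) (J := J)))
        (Core.isCharacter_comp (PJ cs h T X J).subtype (Core.isIrr_isCharacter χ.2)) H.irr hχ (Linear.isCharacter_hom lam)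
        hlam
    obtain ⟨χ, c1, c2⟩ := exists_odd hΘ hodd hΘ1
    have hχ := k3 χ (key χ c1) c2
    refine ⟨ξ, by rw [← hχ]; exact c1, k2, fun χ h1 h2 => k3 χ (key χ h1) h2⟩

/-- **The theorem.** -/
theorem row2_of_dat [Finite W] [Finite Y] [∀ i, Finite (F i)] (hG : GG cs h T X = ⊤)
    (hT : ∀ t : T, (∀ i, D.a i t = 1) → t = 1) {φ : Y → Y} (hφ : H148.GG.Anti R φ)
    (hN : ∀ f : ↥(UU cs h X) →* ℂˣ, ∀ u, (∀ i, co R D i u = 1) → f u = 1) {J : Set I}
    {Φ : ↥(PJ cs h T X J) → ℂ} (H : Dat cs h T X J Φ)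
    (hst : ∀ b : MulAut Y, ∃ (s : Y) (σ : Equiv.Perm I), Std cs h T X (MulAut.conj s * b) σ ∧ σ '' J = J) : Row2 Y := by
  classical
  have : Fintype Y := Fintype.ofFinite Y
  have : Fact (Nat.Prime 2) := ⟨Nat.prime_two⟩
  have hodd : Odd (Nat.card T) := Nat.coprime_two_right.1 R.tcop
  obtain ⟨ξ, h1, h2, h3⟩ := exists_xi R D hG hT (multOne_odd R D hφ hodd) hN H
  have hΘc : IsClassFunction Y (indFun (PJ cs h T X J) Φ) :=
    Core.isCharacter_isClassFunction (Brauer.isCharacter_indFun _ (Core.isIrr_isCharacter H.irr))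
  refine fun B _ => ⟨ξ, ?_, ?_, ?_, ?_⟩
  · intro h4
    apply h1
    have : Fintype ↥(PJ cs h T X J) := Fintype.ofFinite _
    have h5 := Cfsg.Agent.OddOrderCharacters.Clifford.classInner_indFun (PJ cs h T X J) Φ (ξ : Y → ℂ)
      (Core.isIrr_isClassFunction ξ.2)
    rw [h5, h4]
    have h6 : IsIrrCharacter _ (fun _ : ↥(PJ cs h T X J) => (1 : ℂ)) := Core.isIrr_one
    exact Core.classInner_irr_ne H.irr h6 H.ne
  · rw [← Nat.not_even_iff_odd, even_iff_two_dvd]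
    exact h2
  · intro k hk _ g
    exact fixed_pow h1 h2 h3 hk (indFun_pow hk fun b => H.pow k hk b) g
  · intro b _ x
    refine fixed_aut h1 h2 h3 b (fun g => ?_) x
    obtain ⟨s, σ, hs, hJ⟩ := hst b
    have hB : ∀ y, (MulAut.conj s * b) y ∈ PJ cs h T X J ↔ y ∈ PJ cs h T X J := by
      intro y
      have h4 := map_PJ R hG hs J
      rw [hJ] at h4
      constructor
      · intro hy
        rw [← h4] at hy
        obtain ⟨z, hz, e⟩ := hy
        have : z = y := (MulAut.conj s * b).injective e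
        rwa [← this]
      · intro hy
        rw [← h4]
        exact ⟨y, hy, rfl⟩
    have h5 := indFun_aut (B := PJ cs h T X J) (f := Φ) (MulAut.conj s * b) hB (fun y hy hy' => H.inv _ σ hs hJ y hy hy') g
    rw [← h5]
    have h6 : (MulAut.conj s * b) g = s * b g * s⁻¹ := rfl
    rw [h6]
    exact (hΘc (b g) s).symm

end Cfsg.Agent.H310.R2
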