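import Cfsg.Agent.H40.Ch.Chev
import Cfsg.Agent.H310.R2.Main

/-!
# S4829, `Row2`, `q` even: Chevalley groups with Cartan determinant one are adjoint (helper310)

`D` tabulated, `B` an integral left inverse of the Cartan matrix, `Y = D.group K`.

* `full_of` : the torus of `Y` acts by all tuples of scalars on the simple root groups;
* `anti_of` : the anti-automorphism `y ↦ (om y)⁻¹`;
* `row2_chev` : `Row2 Y` from `Dat`.
-/

set_option autoImplicit false
set_option linter.unusedSectionVars false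

open Cfsg

namespace Cfsg.Agent.H310.R2

open Cfsg.Agent.H148.GG Cfsg.Agent.H40.OC Cfsg.Agent.H928.Ad Cfsg.Agent.H770.CY Cfsg.Agent.H554.RG
open Cfsg.Lie Cfsg.Agent.Nodes Cfsg.Agent.Nodes.RGDChev Cfsg.Agent.Nodes.RGDLib
open Cfsg.Agent.Omega.EH3.Kf Cfsg.Agent.H396 Cfsg.Agent.H783
open Cfsg.Agent.Omega.EH3.Kf.Lev (CommGen comm_of_sl)
open CoxeterSystem Cfsg.Agent.ChevalleyStructure.CoxeterGeom Cfsg.Agent.Tits.Roots Cfsg.Agent.Tits.Core
  Cfsg.Agent.Tits.RootComb Cfsg.Agent.Nodes.Comb Cfsg.Agent.Nodes.Reps Cfsg.Agent.Nodes.BNOf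
  Cfsg.Agent.Nodes.Bruhat Cfsg.Agent.Nodes.LeviDec Cfsg.Agent.KFacts.RgdField Cfsg.Agent.KFacts.RgdChevCoord
open Cfsg.Agent.ChevalleyStructure Cfsg.Agent.ChevalleyStructure.Elts Cfsg.Agent.BpExc.TorChev
  Cfsg.Agent.ChevalleyStructure.CoxeterGeomTypes

universe u

theorem prod_zpow_sum {G ι : Type*} [CommGroup G] (u : G) (s : Finset ι) (e : ι → ℤ) :
    ∏ j ∈ s, u ^ e j = u ^ ∑ j ∈ s, e j := by
  classical
  induction s using Finset.induction_on with
  | empty => simp
  | insert a s ha ih => rw [Finset.prod_insert ha, Finset.sum_insert ha, ih, zpow_add]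

theorem prod_inv {G : Type*} [CommGroup G] {l : ℕ} (u : Fin l → G) (B A : Fin l → Fin l → ℤ)
    (hB : ∀ k i, ∑ j, B k j * A j i = if k = i then 1 else 0) (i : Fin l) :
    ∏ j, (∏ k, u k ^ B k j) ^ A j i = u i := by
  have h1 : ∀ j, (∏ k, u k ^ B k j) ^ A j i = ∏ k, u k ^ (B k j * A j i) := by
    intro j
    rw [← Finset.prod_zpow]
    exact Finset.prod_congr rfl fun k _ => (zpow_mul _ _ _).symm
  rw [Finset.prod_congr rfl fun j _ => h1 j, Finset.prod_comm]
  rw [Finset.prod_congr rfl fun k _ => prod_zpow_sum (u k) Finset.univ fun j => B k j * A j i]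
  rw [Finset.prod_eq_single i]
  · rw [hB, if_pos rfl, zpow_one]
  · intro k _ hk
    rw [hB, if_neg hk, zpow_zero]
  · intro h
    exact absurd (Finset.mem_univ i) h

variable {D : ChevalleyDatum} {l : ℕ} {M : CoxeterMatrix (Fin l)} (hp : IsType D l M) {K : Type u} [Field K]
  {W : Type*} [Group W] (cs : CoxeterSystem M W)

include hp cs in
theorem exists_list [Finite K] (p : ℕ) [Fact p.Prime] [CharP K p] (L : List (Fin l)) (f : Fin l → K) (hf : ∀ j, f j ≠ 0) :
    ∃ t ∈ TT D K, ∀ i a, t * xc hp (sr i) a * t⁻¹ =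
      xc hp (sr i) ((L.map fun j => f j ^ cartanOf D l j i).prod * a) := by
  induction L with
  | nil =>
    refine ⟨1, one_mem _, fun i a => ?_⟩
    rw [List.map_nil, List.prod_nil, one_mul, one_mul, inv_one, mul_one]
  | cons j L ih =>
    obtain ⟨t, ht, e⟩ := ih
    have hj := hc_mem hp j (hf j)
    refine ⟨hc hp j (f j) * t, mul_mem hj ht, fun i a => ?_⟩
    have h1 : hc hp j (f j) * t * xc hp (sr i) a * (hc hp j (f j) * t)⁻¹ =
        hc hp j (f j) * (t * xc hp (sr i) a * t⁻¹) * (hc hp j (f j))⁻¹ := by group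
    have h2 := ((coords (K := K) hp cs p).coord _ (isRoot_sr cs hp.isCartan i)).act _ hj
      ((L.map fun j => f j ^ cartanOf D l j i).prod * a)
    rw [h1, e, h2, (coroots (K := K) hp cs p).char i j (f j) (hf j), List.map_cons, List.prod_cons, mul_assoc]

include hp cs in
/-- **The torus acts by all tuples of scalars.** -/
theorem full_of [Finite K] (p : ℕ) [Fact p.Prime] [CharP K p] (B : Fin l → Fin l → ℤ)
    (hB : ∀ k i, ∑ j, B k j * cartanOf D l j i = if k = i then 1 else 0) (c : Fin l → K) (hc : ∀ i, c i ≠ 0) :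
    ∃ t ∈ TT D K, ∀ i a, t * xc hp (sr i) a * t⁻¹ = xc hp (sr i) (c i * a) := by
  let u : Fin l → Kˣ := fun i => Units.mk0 (c i) (hc i)
  obtain ⟨t, ht, e⟩ := exists_list hp cs p (List.finRange l) (fun j => ((∏ k, u k ^ B k j : Kˣ) : K)) fun j => Units.ne_zero _
  refine ⟨t, ht, fun i a => ?_⟩
  rw [e]
  congr 2
  rw [← Fin.prod_univ_def (fun j => ((∏ k, u k ^ B k j : Kˣ) : K) ^ cartanOf D l j i)]
  have h1 := congrArg (fun v : Kˣ => (v : K)) (prod_inv u B (cartanOf D l) hB i)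
  simp only [Units.coe_prod, Units.val_zpow_eq_zpow_val] at h1 ⊢
  exact h1

/-- **The anti-automorphism.** -/
theorem anti_of [Finite K] (p : ℕ) [Fact p.Prime] [CharP K p] [Finite W] :
    H92.GG.Anti cs hp.isCartan (TT D K) (XX D l K) (fun y : ↥(D.group K) => (Chev.om hp K y)⁻¹) := by
  have S := Chev.sys (K := K) hp cs p
  have hcen := H70.OutCount.center_eq_bot (F := K) hp.inList
  refine ⟨fun x y => ?_, fun x => ?_, fun z hz x hx => ?_, fun t ht => ?_⟩
  · simp only [map_mul, mul_inv_rev]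
  · simp only [map_inv, inv_inv]
    have h1 := DFunLike.congr_fun (Chev.om_om hp (K := K) p) x
    exact h1
  · obtain ⟨a, rfl⟩ := (S.mem z hz x).1 hx
    rw [Chev.om_spec hp cs hz]
    exact inv_mem ((S.mem (-z) hz.neg _).2 ⟨-a, rfl⟩)
  · have h1 := Dm_inv S (G1_eq_top hp cs) (ω := Chev.om hp K) (fun z hz => ⟨-1, neg_ne_zero.2 one_ne_zero, fun a => by
      rw [neg_one_mul]
      exact Chev.om_spec hp cs hz a⟩) (Chev.tor_mem hp cs p ht)
    rw [H928.Ad.mul_conj_inv] at h1
    have h2 : MulAut.conj (Chev.om hp K t) = MulAut.conj t⁻¹ := by rw [h1, map_inv]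
    have h3 : Chev.om hp K t = t⁻¹ := by
      have h4 := H928.Ad.emb_injective hcen ⊥ (a₁ := Chev.om hp K t) (a₂ := t⁻¹) (Subtype.ext h2)
      exact h4
    rw [h3, inv_inv]

/-- **the row for a Chevalley group whose Cartan matrix has determinant one** -/
theorem row2_chev [Finite K] [CharP K 2] (B : Fin l → Fin l → ℤ)
    (hB : ∀ k i, ∑ j, B k j * cartanOf D l j i = if k = i then 1 else 0)
    (hC : CommGen M.toCoxeterSystem hp.isCartan (XX D l K)) {J : Set (Fin l)}
    {Φ : ↥(PJ M.toCoxeterSystem hp.isCartan (TT D K) (XX D l K) J) → ℂ}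
    (H : Dat M.toCoxeterSystem hp.isCartan (TT D K) (XX D l K) J Φ)
    (hst : ∀ b : MulAut ↥(D.group K), ∃ (s : ↥(D.group K)) (σ : Equiv.Perm (Fin l)),
      Std M.toCoxeterSystem hp.isCartan (TT D K) (XX D l K) (MulAut.conj s * b) σ ∧ σ '' J = J) :
    Row2 ↥(D.group K) := by
  have : Fact (Nat.Prime 2) := ⟨Nat.prime_two⟩
  have : Finite M.Group := finite_W hp M.toCoxeterSystem
  have R := rgd (K := K) hp M.toCoxeterSystem 2
  have S := Chev.sys (K := K) hp M.toCoxeterSystem 2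
  have hG := GG_top hp M.toCoxeterSystem (K := K)
  let P := H40.Ch.par S (full_of (K := K) hp M.toCoxeterSystem 2 B hB)
  have hN := lin_of_commGen R hC P.adj
  have hcomm : ∀ s ∈ TT D K, ∀ t ∈ TT D K, s * t = t * s := by
    intro s hs t ht
    have h1 := S.comm (G1_eq_top hp M.toCoxeterSystem) (Dm_le (Chev.tor_mem hp M.toCoxeterSystem 2 hs))
      (Dm_le (Chev.tor_mem hp M.toCoxeterSystem 2 ht))
    rw [← map_mul, ← map_mul] at h1
    exact H928.Ad.emb_injective (H70.OutCount.center_eq_bot (F := K) hp.inList) ⊥ (Subtype.ext h1)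
  have hT := faithful R hG hcomm (H70.OutCount.center_eq_bot hp.inList) P.adj
  exact row2_of_dat R P.adj hG hT (H356.AQ.anti148 (anti_of hp M.toCoxeterSystem 2)) hN H hst

end Cfsg.Agent.H310.R2
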