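import Cfsg.Agent.H310.R2.Main
import Cfsg.Agent.H655.R2.Two

/-!
# S4829, `Row2`, `q` even: two orthogonal nodes (helper310)

`J = {k₁, k₂}`, `π₁`, `π₂ : P_J → SL₂(F)` the two projections, `η` the rational character of odd degree of `SL₂(F)`:

* `dat_two` : `Dat J (η(π₁) η(π₂))`.
-/

set_option autoImplicit false
set_option linter.unusedSectionVars false

open scoped ComplexConjugate MatrixGroups
open Cfsg

namespace Cfsg.Agent.H310.R2

open Cfsg.Agent.Characters Cfsg.Agent.H770.CY Cfsg.Agent.H497.Gow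
open Cfsg.Agent.H53.HC Cfsg.Agent.H554.RG Cfsg.Agent.KFacts.RgdAut Cfsg.Agent.KFacts.RgdDiag
  Cfsg.Agent.H641.Gow

open CoxeterSystem Cfsg.Agent.ChevalleyStructure.CoxeterGeom Cfsg.Agent.Tits.Roots Cfsg.Agent.Tits.Core
  Cfsg.Agent.Tits.Exchange Cfsg.Agent.Nodes.Reps Cfsg.Agent.Nodes.BNOf Cfsg.Agent.Nodes.StabComb
  Cfsg.Agent.Nodes.Bruhat Cfsg.Agent.Nodes.OppDec Cfsg.Agent.Nodes.LeviDec
open Cfsg.Agent.KFacts.RgdChevCoord (sx sy)

universe u

/-- the properties of the character `η` of `SL₂(F)` -/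
structure EtaP (F : Type*) [Field F] [Fintype SL(2, F)] (η : SL(2, F) → ℂ) : Prop where
  irr : IsIrrCharacter _ η
  ne : η ≠ fun _ => 1
  odd : ∃ d : ℕ, Odd d ∧ η 1 = d
  ord : ∀ g g' : SL(2, F), orderOf g = orderOf g' → η g = η g'
  cas : (∀ [Fintype F], ∑ a : F, η (sx a) = 0) ∨ ∃ lam : ↥(Bor F) →* ℂˣ, (∀ (a : F) (ha : sx a ∈ Bor F), lam ⟨_, ha⟩ = 1) ∧
    ∀ [Fintype ↥(Bor F)], classInner (fun b : ↥(Bor F) => η b) (fun b => (lam b : ℂ)) ≠ 0

theorem exists_etaP (F : Type*) [Field F] [Finite F] [CharP F 2] [Fintype SL(2, F)] : ∃ η, EtaP F η := by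
  obtain ⟨η, h1, h2, h3, h4, h5⟩ := H655.R2.eta F
  obtain ⟨d, -, hd⟩ := Core.isIrr_apply_one h1
  refine ⟨η, h1, h2, ⟨d, ?_, hd⟩, h4, ?_⟩
  · rw [Cfsg.Agent.Blocks.Basic.charDegree_of_eq hd, ← even_iff_two_dvd, Nat.not_even_iff_odd] at h3
    exact h3
  · rcases h5 with h5 | ⟨Bo, lam, h6, h7, h8⟩
    · exact Or.inl h5
    · right
      have hB : Bo = Bor F := by
        ext g
        exact h6 g
      subst hB
      refine ⟨lam, h7, fun {_} => ?_⟩
      have h9 : classInner η (indFun (Bor F) fun b => ((lam b : ℂˣ) : ℂ)) = 1 := by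
        rw [← h8]
        exact Core.classInner_irr_self h1
      rw [← Core.classInner_conj_symm, Cfsg.Agent.OddOrderCharacters.Clifford.classInner_indFun _ _ _
        (Core.isIrr_isClassFunction h1)] at h9
      intro h10
      rw [← Core.classInner_conj_symm, Complex.conj_conj] at h9
      rw [h10] at h9
      exact zero_ne_one h9

/-- the product of two characters and of two linear characters -/
theorem mul_ne_zero_lin {H : Type*} [Group H] [Fintype H] {f g a b : H → ℂ} (hf : IsCharacter H f) (hg : IsCharacter H g)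
    (ha : IsCharacter H a) (hb : IsCharacter H b) (h1 : classInner f a ≠ 0) (h2 : classInner g b ≠ 0) :
    classInner (fun x => f x * g x) (fun x => a x * b x) ≠ 0 := by
  have e1 : classInner (fun x => f x * g x) (fun x => a x * b x) =
      classInner (f * fun x => conj (a x)) (b * fun x => conj (g x)) := by
    rw [Core.classInner_def, Core.classInner_def]
    congr 1
    refine Finset.sum_congr rfl fun x _ => ?_
    simp only [Pi.mul_apply, map_mul, Complex.conj_conj]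
    ring
  rw [e1]
  refine H743.GG.inner_ne_zero (Core.isCharacter_mul hf (Core.isCharacter_conj ha))
    (Core.isCharacter_mul hb (Core.isCharacter_conj hg)) (Core.isIrr_one) ?_ ?_
  · have e2 : classInner (f * fun x => conj (a x)) (1 : H → ℂ) = classInner f a := by
      rw [Core.classInner_def, Core.classInner_def]
      congr 1
      refine Finset.sum_congr rfl fun x _ => ?_
      simp
    rw [e2]
    exact h1
  · have e2 : classInner (b * fun x => conj (g x)) (1 : H → ℂ) = classInner b g := by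
      rw [Core.classInner_def, Core.classInner_def]
      congr 1
      refine Finset.sum_congr rfl fun x _ => ?_
      simp
    rw [e2, ← Core.classInner_conj_symm, Ne, map_eq_zero]
    exact h2

variable {I W : Type*} {Y : Type u} [Fintype I] [DecidableEq I] [Group W] [Group Y] {M : CoxeterMatrix I}
  {cs : CoxeterSystem M W} {A : I → I → ℤ} {h : IsCartan M A} {T : Subgroup Y} {n : I → Y}
  {X : (I → ℤ) → Subgroup Y} {F : Type*} [Field F] {J : Set I} {i : I} {φ : SL(2, F) →* Y}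
  {π : ↥(PJ cs h T X J) →* SL(2, F)}

/-- the projection of the Borel subgroup -/
def Proj.bor (P : Proj cs h T X J i φ π) (R : RGD cs h 2 T n X) : ↥(RGD.B cs h T X) →* ↥(Bor F) where
  toFun b := ⟨π ⟨b, B_le_PJ b.2⟩, P.map_B R b.2 _⟩
  map_one' := Subtype.ext (by
    change π ⟨((1 : ↥(RGD.B cs h T X)) : Y), _⟩ = 1
    exact map_one π)
  map_mul' a b := Subtype.ext (by
    change π _ = π _ * π _
    rw [← map_mul]
    rfl)

theorem Proj.bor_coe (P : Proj cs h T X J i φ π) (R : RGD cs h 2 T n X) (b : ↥(RGD.B cs h T X)) :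
    ((P.bor R b : ↥(Bor F)) : SL(2, F)) = π ⟨b, B_le_PJ b.2⟩ := rfl

theorem Proj.bor_U [Finite W] [CharP F 2] (P : Proj cs h T X J i φ π) (R : RGD cs h 2 T n X) {lam : ↥(Bor F) →* ℂˣ}
    (hl : ∀ (a : F) (ha : sx a ∈ Bor F), lam ⟨_, ha⟩ = 1) {u : Y} (hu : u ∈ RGD.Sup X (RGD.Pos cs h)) :
    lam (P.bor R ⟨u, RGD.U_le_B hu⟩) = 1 := by
  obtain ⟨k, hk⟩ := R.isPGroup_Upos ⟨u, hu⟩
  have hk' : u ^ 2 ^ k = 1 := congrArg Subtype.val hk
  have h1 : (P.bor R ⟨u, RGD.U_le_B hu⟩) ^ 2 ^ k = 1 := by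
    rw [← map_pow]
    have : (⟨u, RGD.U_le_B hu⟩ : ↥(RGD.B cs h T X)) ^ 2 ^ k = 1 := Subtype.ext hk'
    rw [this, map_one]
  obtain ⟨b, hb⟩ := H655.R2.exists_up (K := F) (s := ((P.bor R ⟨u, RGD.U_le_B hu⟩ : ↥(Bor F)) : SL(2, F)))
    (P.bor R ⟨u, RGD.U_le_B hu⟩).2 (congrArg Subtype.val h1)
  have h2 : P.bor R ⟨u, RGD.U_le_B hu⟩ = ⟨sx b, by rw [mem_Bor]; rfl⟩ := Subtype.ext hb
  rw [h2]
  exact hl b _

/-- the power maps -/
theorem eta_pow [Finite Y] [Fintype SL(2, F)] {η : SL(2, F) → ℂ} (E : EtaP F η) {P : Subgroup Y} (π : ↥P →* SL(2, F))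
    {k : ℕ} (hk : k.Coprime (Nat.card Y)) (x : ↥P) : η (π (x ^ k)) = η (π x) := by
  apply E.ord
  rw [map_pow]
  refine Nat.Coprime.orderOf_pow (hk.symm.coprime_dvd_left ?_)
  refine (orderOf_map_dvd π x).trans ?_
  rw [← Subgroup.orderOf_coe]
  exact orderOf_dvd_natCard _

/-- **two orthogonal nodes** -/
theorem dat_two [Finite W] [Finite Y] [Finite F] [CharP F 2] [Fintype SL(2, F)] (R : RGD cs h 2 T n X)
    (hG : GG cs h T X = ⊤) {k₁ k₂ : I} (ho : Orth A {k₁} {k₂}) {φ₁ φ₂ : SL(2, F) →* Y} (hJ : {k₁} ∪ {k₂} = J)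
    {π₁ π₂ : ↥(PJ cs h T X J) →* SL(2, F)} (P₁ : Proj cs h T X J k₁ φ₁ π₁) (P₂ : Proj cs h T X J k₂ φ₂ π₂)
    {η : SL(2, F) → ℂ} (E : EtaP F η) : Dat cs h T X J (fun x => η (π₁ x) * η (π₂ x)) := by
  classical
  have hne : k₁ ≠ k₂ := (ho k₁ rfl k₂ rfl).1
  obtain ⟨d, hd, hd1⟩ := E.odd
  have hd0 : (d : ℂ) ≠ 0 := by
    have := hd.pos
    exact_mod_cast this.ne'
  have hm2 : J \ {k₁} = {k₂} := by
    rw [← hJ]
    ext x
    simp only [Set.mem_sdiff, Set.mem_union, Set.mem_singleton_iff]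
    constructor
    · rintro ⟨rfl | rfl, h2⟩
      · exact absurd rfl h2
      · rfl
    · rintro rfl
      exact ⟨Or.inr rfl, hne.symm⟩
  have hm1 : J \ {k₂} = {k₁} := by
    rw [← hJ]
    ext x
    simp only [Set.mem_sdiff, Set.mem_union, Set.mem_singleton_iff]
    constructor
    · rintro ⟨rfl | rfl, h2⟩
      · rfl
      · exact absurd rfl h2
    · rintro rfl
      exact ⟨Or.inl rfl, hne⟩
  -- the values at `φ₁`, `φ₂`
  have v12 : ∀ g (hg : φ₁ g ∈ PJ cs h T X J), π₂ ⟨φ₁ g, hg⟩ = 1 := by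
    intro g hg
    obtain ⟨_, e⟩ := P₂.killM (φ₁ g) (by rw [hm1, ← P₁.node.range]; exact ⟨g, rfl⟩)
    exact e
  have v21 : ∀ g (hg : φ₂ g ∈ PJ cs h T X J), π₁ ⟨φ₂ g, hg⟩ = 1 := by
    intro g hg
    obtain ⟨_, e⟩ := P₁.killM (φ₂ g) (by rw [hm2, ← P₂.node.range]; exact ⟨g, rfl⟩)
    exact e
  have v11 : ∀ g (hg : φ₁ g ∈ PJ cs h T X J), π₁ ⟨φ₁ g, hg⟩ = g := fun g hg => (P₁.fix g).choose_spec
  have v22 : ∀ g (hg : φ₂ g ∈ PJ cs h T X J), π₂ ⟨φ₂ g, hg⟩ = g := fun g hg => (P₂.fix g).choose_spec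
  have hL1 : ∀ g, φ₁ g ∈ LJ cs h T X J := fun g => (P₁.fix g).choose
  have hL2 : ∀ g, φ₂ g ∈ LJ cs h T X J := fun g => (P₂.fix g).choose
  -- surjectivity
  have hsurj : Function.Surjective ((π₁.prod π₂).comp (Subgroup.inclusion
      (LJ_le_PJ (cs := cs) (h := h) (T := T) (X := X) (J := J)))) := by
    rintro ⟨a, b⟩
    refine ⟨⟨φ₁ a, hL1 a⟩ * ⟨φ₂ b, hL2 b⟩, ?_⟩
    rw [map_mul]
    have e1 : ((π₁.prod π₂).comp (Subgroup.inclusion
        (LJ_le_PJ (cs := cs) (h := h) (T := T) (X := X) (J := J)))) ⟨φ₁ a, hL1 a⟩ = (a, 1) :=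
      Prod.ext (v11 a (LJ_le_PJ (hL1 a))) (v12 a (LJ_le_PJ (hL1 a)))
    have e2 : ((π₁.prod π₂).comp (Subgroup.inclusion
        (LJ_le_PJ (cs := cs) (h := h) (T := T) (X := X) (J := J)))) ⟨φ₂ b, hL2 b⟩ = (1, b) :=
      Prod.ext (v21 b (LJ_le_PJ (hL2 b))) (v22 b (LJ_le_PJ (hL2 b)))
    rw [e1, e2, Prod.mk_mul_mk, mul_one, one_mul]
  have hsurj' : Function.Surjective (π₁.prod π₂) := by
    intro x
    obtain ⟨y, hy⟩ := hsurj x
    exact ⟨_, hy⟩
  have hout := Cfsg.Agent.S0188.isIrr_outer E.irr E.irr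
  refine ⟨Core.isIrr_comp (π₁.prod π₂) hsurj' hout, ?_, ⟨d * d, hd.mul hd, ?_⟩, ?_, ?_, ?_⟩
  · -- not trivial
    intro h1
    apply E.ne
    have h2 : ∀ a b, η a * η b = 1 := by
      intro a b
      obtain ⟨y, hy⟩ := hsurj' (a, b)
      have h3 := congrFun h1 y
      have h4 : π₁ y = a := congrArg Prod.fst hy
      have h5 : π₂ y = b := congrArg Prod.snd hy
      rw [h4, h5] at h3
      exact h3
    have h3 := h2 1 1
    rw [hd1] at h3
    have h4 : d * d = 1 := by exact_mod_cast h3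
    have h5 : d = 1 := Nat.eq_one_of_mul_eq_one_right h4
    funext a
    have h6 := h2 a 1
    rwa [hd1, h5, Nat.cast_one, mul_one] at h6
  · rw [map_one, map_one, hd1]
    push_cast
    rfl
  · intro k hk x
    rw [eta_pow E π₁ hk, eta_pow E π₂ hk]
  · intro β σ hβ hσ x hx hx'
    have hc : ∀ k ∈ J, k = k₁ ∨ k = k₂ := by
      intro k hk
      rw [← hJ] at hk
      exact hk
    have hσ1 : σ k₁ = k₁ ∨ σ k₁ = k₂ := hc _ (by rw [← hσ]; exact ⟨k₁, P₁.mem, rfl⟩)
    have hσ2 : σ k₂ = k₁ ∨ σ k₂ = k₂ := hc _ (by rw [← hσ]; exact ⟨k₂, P₂.mem, rfl⟩)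
    rcases hσ1 with h1 | h1
    · have h2 : σ k₂ = k₂ := by
        rcases hσ2 with h2 | h2
        · exact absurd (σ.injective (h1.trans h2.symm)) hne
        · exact h2
      have Q₁ : Proj cs h T X J (σ k₁) φ₁ π₁ := by rw [h1]; exact P₁
      have Q₂ : Proj cs h T X J (σ k₂) φ₂ π₂ := by rw [h2]; exact P₂
      rw [E.ord _ _ (P₁.orderOf_std R hG hβ hσ Q₁ hx hx'), E.ord _ _ (P₂.orderOf_std R hG hβ hσ Q₂ hx hx')]
    · have h2 : σ k₂ = k₁ := by
        rcases hσ2 with h2 | h2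
        · exact h2
        · exact absurd (σ.injective (h1.trans h2.symm)) hne
      have Q₁ : Proj cs h T X J (σ k₁) φ₂ π₂ := by rw [h1]; exact P₂
      have Q₂ : Proj cs h T X J (σ k₂) φ₁ π₁ := by rw [h2]; exact P₁
      rw [E.ord _ _ (P₁.orderOf_std R hG hβ hσ Q₁ hx hx'), E.ord _ _ (P₂.orderOf_std R hG hβ hσ Q₂ hx hx'), mul_comm]
  · rcases E.cas with hc | ⟨lam, hl, hlam⟩
    · left
      refine ⟨Core.isIrr_comp _ hsurj hout, ?_, ?_⟩
      · intro k hk _
        have : Fintype F := Fintype.ofFinite F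
        have hk' : k = k₁ ∨ k = k₂ := by
          rw [← hJ] at hk
          exact hk
        rcases hk' with rfl | rfl
        · have hr : rad cs h X J k = X (sr k) := by
            rw [← hJ, ho.rad_eq (Set.mem_singleton k), Cfsg.Agent.H497.Gow.rad_single]
          have hmem : ∀ a : F, φ₁ (sx a) ∈ rad cs h X J k := fun a => by
            rw [hr]
            exact (P₁.node.up _).2 ⟨a, rfl⟩
          have hb : Function.Bijective (fun a : F => (⟨φ₁ (sx a), hmem a⟩ : rad cs h X J k)) := by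
            constructor
            · intro a b hab
              exact sx_inj (P₁.node.inj (congrArg Subtype.val hab))
            · rintro ⟨y, hy⟩
              have hy' := hy
              rw [hr] at hy'
              obtain ⟨u, rfl⟩ := (P₁.node.up y).1 hy'
              exact ⟨u, rfl⟩
          have h0 : ∑ a : F, η (sx a) * η 1 = 0 := by rw [← Finset.sum_mul, hc, zero_mul]
          rw [← h0]
          symm
          refine Fintype.sum_bijective _ hb _ _ fun a => ?_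
          change η (sx a) * η 1 = η (π₁ ⟨φ₁ (sx a), _⟩) * η (π₂ ⟨φ₁ (sx a), _⟩)
          rw [v11, v12]
        · have hr : rad cs h X J k = X (sr k) := by
            rw [← hJ, Set.union_comm, ho.symm.rad_eq (Set.mem_singleton k), Cfsg.Agent.H497.Gow.rad_single]
          have hmem : ∀ a : F, φ₂ (sx a) ∈ rad cs h X J k := fun a => by
            rw [hr]
            exact (P₂.node.up _).2 ⟨a, rfl⟩
          have hb : Function.Bijective (fun a : F => (⟨φ₂ (sx a), hmem a⟩ : rad cs h X J k)) := by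
            constructor
            · intro a b hab
              exact sx_inj (P₂.node.inj (congrArg Subtype.val hab))
            · rintro ⟨y, hy⟩
              have hy' := hy
              rw [hr] at hy'
              obtain ⟨u, rfl⟩ := (P₂.node.up y).1 hy'
              exact ⟨u, rfl⟩
          have h0 : ∑ a : F, η 1 * η (sx a) = 0 := by rw [← Finset.mul_sum, hc, mul_zero]
          rw [← h0]
          symm
          refine Fintype.sum_bijective _ hb _ _ fun a => ?_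
          change η 1 * η (sx a) = η (π₁ ⟨φ₂ (sx a), _⟩) * η (π₂ ⟨φ₂ (sx a), _⟩)
          rw [v21, v22]
      · intro l hl v hv
        have hvk : ∀ k ∈ J, v ∈ RGD.Sup X (NotJ cs h {k}) := by
          intro k hk
          refine RGD.Sup_mono ?_ hv
          rintro x ⟨h1, h2, j, hj, h3⟩
          exact ⟨h1, h2, j, fun hjk => hj (by rw [Set.mem_singleton_iff.1 hjk]; exact hk), h3⟩
        obtain ⟨hv1, e1⟩ := P₁.kill v (hvk _ P₁.mem)
        obtain ⟨hv2, e2⟩ := P₂.kill v (hvk _ P₂.mem)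
        have e3 : (⟨l * v, mul_mem (LJ_le_PJ hl) (VJ_le_PJ hv)⟩ : ↥(PJ cs h T X J)) =
            (⟨l, LJ_le_PJ hl⟩ : ↥(PJ cs h T X J)) * ⟨v, hv1⟩ := rfl
        change η (π₁ ⟨l * v, _⟩) * η (π₂ ⟨l * v, _⟩) = η (π₁ ⟨l, _⟩) * η (π₂ ⟨l, _⟩)
        rw [e3, map_mul, map_mul, e1, e2, mul_one, mul_one]
    · right
      refine ⟨(lam.comp (P₁.bor R)) * (lam.comp (P₂.bor R)), fun u hu => ?_, fun {_} => ?_⟩
      · rw [MonoidHom.mul_apply, MonoidHom.comp_apply, MonoidHom.comp_apply, P₁.bor_U R hl hu, P₂.bor_U R hl hu, mul_one]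
      · have : Fintype ↥(Bor F) := Fintype.ofFinite _
        have hres : IsCharacter ↥(Bor F) (fun b : ↥(Bor F) => η b) :=
          Core.isCharacter_comp (Bor F).subtype (Core.isIrr_isCharacter E.irr)
        have hli : IsIrrCharacter ↥(Bor F) (fun b => (lam b : ℂ)) := Linear.isIrrCharacter_hom lam
        have key : ∀ (f : ↥(RGD.B cs h T X) →* ↥(Bor F)),
            classInner (fun b : ↥(RGD.B cs h T X) => η (f b)) (fun b => ((lam.comp f b : ℂˣ) : ℂ)) ≠ 0 := by
          intro f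
          refine comp_ne_zero f hres hli hlam (Linear.isCharacter_hom (lam.comp f)) ?_
          have e1 : (fun b => ((lam b : ℂˣ) : ℂ)) ∘ f = fun b => ((lam.comp f b : ℂˣ) : ℂ) := rfl
          rw [e1, Core.classInner_irr_self (Linear.isIrrCharacter_hom (lam.comp f))]
          exact one_ne_zero
        have h1 := mul_ne_zero_lin (Core.isCharacter_comp (P₁.bor R) hres) (Core.isCharacter_comp (P₂.bor R) hres)
          (Linear.isCharacter_hom (lam.comp (P₁.bor R))) (Linear.isCharacter_hom (lam.comp (P₂.bor R)))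
          (key (P₁.bor R)) (key (P₂.bor R))
        exact h1

/-- **the induced function is fixed by the automorphisms** (no condition on `U`, valid for `|F| = 2`) -/
theorem ind_inv [Finite W] [Fintype Y] (R : RGD cs h 2 T n X) (hG : GG cs h T X = ⊤)
    {Φ : ↥(PJ cs h T X J) → ℂ} (H : Dat cs h T X J Φ) (b : MulAut Y)
    (hst : ∃ (s : Y) (σ : Equiv.Perm I), Std cs h T X (MulAut.conj s * b) σ ∧ σ '' J = J) (g : Y) :
    indFun (PJ cs h T X J) Φ (b g) = indFun (PJ cs h T X J) Φ g := by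
  have hΘc : IsClassFunction Y (indFun (PJ cs h T X J) Φ) :=
    Core.isCharacter_isClassFunction (Brauer.isCharacter_indFun _ (Core.isIrr_isCharacter H.irr))
  obtain ⟨s, σ, hs, hJ⟩ := hst
  have hB : ∀ y, (MulAut.conj s * b) y ∈ PJ cs h T X J ↔ y ∈ PJ cs h T X J := by
    intro y
    have h4 := map_PJ R hG hs J
    rw [hJ] at h4
    constructor
    · intro hy
      rw [← h4] at hy
      obtain ⟨z, hz, e⟩ := hy
      have : z = y := (MulAut.conj s * b).injective e
      rwa [← this]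
    · intro hy
      rw [← h4]
      exact ⟨y, hy, rfl⟩
  have h5 := H151.OC.indFun_aut (B := PJ cs h T X J) (f := Φ) (MulAut.conj s * b) hB
    (fun y hy hy' => H.inv _ σ hs hJ y hy hy') g
  rw [← h5]
  have h6 : (MulAut.conj s * b) g = s * b g * s⁻¹ := rfl
  rw [h6]
  exact (hΘc (b g) s).symm

end Cfsg.Agent.H310.R2
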