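import Cfsg.Agent.H310.R2.Two

/-!
# S4829, `Row2`, `q` even: one node (helper310)

`J = {k}`, `π : P_J → SL₂(F)` the projection, `η` the rational character of odd degree of `SL₂(F)`:

* `dat_one` : `Dat J (η(π))`.
-/

set_option autoImplicit false
set_option linter.unusedSectionVars false

open scoped ComplexConjugate MatrixGroups
open Cfsg

namespace Cfsg.Agent.H310.R2

open Cfsg.Agent.Characters Cfsg.Agent.H770.CY Cfsg.Agent.H497.Gow
open Cfsg.Agent.H53.HC Cfsg.Agent.H554.RG Cfsg.Agent.KFacts.RgdAut Cfsg.Agent.KFacts.RgdDiag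
  Cfsg.Agent.H641.Gow

open CoxeterSystem Cfsg.Agent.ChevalleyStructure.CoxeterGeom Cfsg.Agent.Tits.Roots Cfsg.Agent.Tits.Core
  Cfsg.Agent.Tits.Exchange Cfsg.Agent.Nodes.Reps Cfsg.Agent.Nodes.BNOf Cfsg.Agent.Nodes.StabComb
  Cfsg.Agent.Nodes.Bruhat Cfsg.Agent.Nodes.OppDec Cfsg.Agent.Nodes.LeviDec
open Cfsg.Agent.KFacts.RgdChevCoord (sx sy)

universe u

variable {I W : Type*} {Y : Type u} [Fintype I] [DecidableEq I] [Group W] [Group Y] {M : CoxeterMatrix I}
  {cs : CoxeterSystem M W} {A : I → I → ℤ} {h : IsCartan M A} {T : Subgroup Y} {n : I → Y}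
  {X : (I → ℤ) → Subgroup Y} {F : Type*} [Field F] {k : I} {φ : SL(2, F) →* Y}
  {π : ↥(PJ cs h T X {k}) →* SL(2, F)}

/-- **one node** -/
theorem dat_one [Finite W] [Finite Y] [Finite F] [CharP F 2] [Fintype SL(2, F)] (R : RGD cs h 2 T n X)
    (hG : GG cs h T X = ⊤) (P : Proj cs h T X {k} k φ π) {η : SL(2, F) → ℂ} (E : EtaP F η) :
    Dat cs h T X {k} (fun x => η (π x)) := by
  classical
  have v11 : ∀ g (hg : φ g ∈ PJ cs h T X {k}), π ⟨φ g, hg⟩ = g := fun g hg => (P.fix g).choose_spec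
  have hsurj : Function.Surjective (π.comp (Subgroup.inclusion
      (LJ_le_PJ (cs := cs) (h := h) (T := T) (X := X) (J := {k})))) := by
    intro g
    exact ⟨⟨φ g, (P.fix g).choose⟩, (P.fix g).choose_spec⟩
  refine ⟨Core.isIrr_comp π P.surj E.irr, ?_, ?_, ?_, ?_, ?_⟩
  · intro h1
    apply E.ne
    funext a
    obtain ⟨y, rfl⟩ := P.surj a
    exact congrFun h1 y
  · obtain ⟨d, hd, h1⟩ := E.odd
    exact ⟨d, hd, by rw [map_one, h1]⟩
  · intro m hm x
    exact eta_pow E π hm x
  · intro β σ hβ hσ x hx hx'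
    have h1 : σ k = k := by
      have : σ k ∈ σ '' {k} := ⟨k, rfl, rfl⟩
      rw [hσ] at this
      exact this
    have Q : Proj cs h T X {k} (σ k) φ π := by rw [h1]; exact P
    exact E.ord _ _ (P.orderOf_std R hG hβ hσ Q hx hx')
  · rcases E.cas with hc | ⟨lam, hl, hlam⟩
    · left
      refine ⟨Core.isIrr_comp _ hsurj E.irr, ?_, ?_⟩
      · intro j hj _
        rw [Set.mem_singleton_iff] at hj
        subst hj
        have : Fintype F := Fintype.ofFinite F
        have hr : rad cs h X {j} j = X (sr j) := Cfsg.Agent.H497.Gow.rad_single j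
        have hmem : ∀ a : F, φ (sx a) ∈ rad cs h X {j} j := fun a => by
          rw [hr]
          exact (P.node.up _).2 ⟨a, rfl⟩
        have hb : Function.Bijective (fun a : F => (⟨φ (sx a), hmem a⟩ : rad cs h X {j} j)) := by
          constructor
          · intro a b hab
            exact sx_inj (P.node.inj (congrArg Subtype.val hab))
          · rintro ⟨y, hy⟩
            have hy' := hy
            rw [hr] at hy'
            obtain ⟨u, rfl⟩ := (P.node.up y).1 hy'
            exact ⟨u, rfl⟩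
        rw [← hc]
        symm
        refine Fintype.sum_bijective _ hb _ _ fun a => ?_
        change η (sx a) = η (π ⟨φ (sx a), _⟩)
        rw [v11]
      · intro l hl v hv
        have hvk : v ∈ RGD.Sup X (NotJ cs h {k}) := by
          refine RGD.Sup_mono ?_ hv
          rintro x ⟨h1, h2, j, hj, h3⟩
          exact ⟨h1, h2, j, hj, h3⟩
        obtain ⟨hv1, e1⟩ := P.kill v hvk
        have e3 : (⟨l * v, mul_mem (LJ_le_PJ hl) (VJ_le_PJ hv)⟩ : ↥(PJ cs h T X {k})) =
            (⟨l, LJ_le_PJ hl⟩ : ↥(PJ cs h T X {k})) * ⟨v, hv1⟩ := rfl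
        change η (π ⟨l * v, _⟩) = η (π ⟨l, _⟩)
        rw [e3, map_mul, e1, mul_one]
    · right
      refine ⟨lam.comp (P.bor R), fun u hu => ?_, fun {_} => ?_⟩
      · rw [MonoidHom.comp_apply, P.bor_U R hl hu]
      · have : Fintype ↥(Bor F) := Fintype.ofFinite _
        have hres : IsCharacter ↥(Bor F) (fun b : ↥(Bor F) => η b) :=
          Core.isCharacter_comp (Bor F).subtype (Core.isIrr_isCharacter E.irr)
        have hli : IsIrrCharacter ↥(Bor F) (fun b => (lam b : ℂ)) := Linear.isIrrCharacter_hom lam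
        refine comp_ne_zero (P.bor R) hres hli hlam (Linear.isCharacter_hom (lam.comp (P.bor R))) ?_
        have e1 : (fun b => ((lam b : ℂˣ) : ℂ)) ∘ (P.bor R) = fun b => ((lam.comp (P.bor R) b : ℂˣ) : ℂ) := rfl
        rw [e1, Core.classInner_irr_self (Linear.isIrrCharacter_hom (lam.comp (P.bor R)))]
        exact one_ne_zero

end Cfsg.Agent.H310.R2
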