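import Cfsg.Agent.H310.R2.Adj
import Cfsg.Agent.H310.R2.One
import Cfsg.Agent.H69.OutGF
import Cfsg.Agent.H706.Gow.TwoNodes
import Cfsg.Agent.H776.CY.Congr

/-!
# S4829, `Row2`: the groups `G₂(q)`, `q > 2` even (helper310)

* `perm_of_diag` : a standard automorphism of type `σ` permutes the root groups;
* `row2_G2`, `row_g2`.
-/

set_option autoImplicit false

open Cfsg

namespace Cfsg.Agent.H310.R2

open Cfsg.Agent.H770.CY Cfsg.Agent.H554.RG Cfsg.Agent.H53.HC
open Cfsg.Lie Cfsg.Agent.Nodes.RGDChev Cfsg.Agent.Nodes.RGDLib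
open Cfsg.Agent.Omega.EH3.Kf.Lev (CommGen)
open CoxeterSystem Cfsg.Agent.ChevalleyStructure.CoxeterGeom Cfsg.Agent.ChevalleyStructure.CoxeterGeomTypes
open Cfsg.Agent.Tits.Roots Cfsg.Agent.Tits.Core Cfsg.Agent.Nodes.Reps Cfsg.Agent.Nodes.BNOf Cfsg.Agent.Nodes.Bruhat
  Cfsg.Agent.Nodes.LeviDec Cfsg.Agent.H706.Gow Cfsg.Agent.H497.Gow
open Cfsg.Agent.H627.Gow Cfsg.Agent.H636.Gow Cfsg.Agent.BpExc.TorChev
  Cfsg.Agent.KFacts.RgdChevCoord Cfsg.Agent.KFacts.RgdField Cfsg.Agent.KFacts.RgdAut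
open Cfsg.Agent.H396.CommTab (commGen_G2)
open scoped MatrixGroups Pointwise

universe u

theorem isType2 : IsType chevG2 2 CoxeterMatrix.G₂ := by simp [IsType, typeList]

section Perm

variable {F : Type u} [Field F]

theorem XX2_sr (i : Fin 2) : XX chevG2 2 F (sr i) = H70.ChevFix.XX chevG2 F (chevG2.simple i) := by
  change (XV chevG2 2 F (sr i)).subgroupOf (chevG2.group F) = _
  rw [XV_sr isType2]

theorem XX2_neg_sr (i : Fin 2) : XX chevG2 2 F (-sr i) = H70.ChevFix.XX chevG2 F (chevG2.neg (chevG2.simple i)) := by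
  change (XV chevG2 2 F (-sr i)).subgroupOf (chevG2.group F) = _
  rw [XV_neg_sr isType2]

theorem perm_of_diag {β : MulAut ↥(chevG2.group F)} {σ : Equiv.Perm (Fin 2)}
    (D : KFacts.RgdDiag.Diag (TT chevG2 F) (XX chevG2 2 F) β σ) : H70.ChevField.Perm chevG2 F β σ := by
  have key : ∀ {A B : Subgroup ↥(chevG2.group F)}, (∀ g, g ∈ A ↔ β g ∈ B) → β • A = B := by
    intro A B hAB
    ext g
    rw [Subgroup.mem_pointwise_smul_iff_inv_smul_mem]
    change β⁻¹ g ∈ A ↔ _
    rw [hAB, MulAut.apply_inv_self]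
  have h1 : ∀ i : Fin 2, β • H70.ChevFix.XX chevG2 F (chevG2.simple i) =
      H70.ChevFix.XX chevG2 F (chevG2.simple (σ i : Fin 2)) := fun i => key fun g => by
    have h := D.pos i g
    rw [XX2_sr, XX2_sr] at h
    exact h.symm
  have h2 : ∀ i : Fin 2, β • H70.ChevFix.XX chevG2 F (chevG2.neg (chevG2.simple i)) =
      H70.ChevFix.XX chevG2 F (chevG2.neg (chevG2.simple (σ i : Fin 2))) := fun i => key fun g => by
    have h := D.neg i g
    rw [XX2_neg_sr, XX2_neg_sr] at h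
    exact h.symm
  exact ⟨h1, h2⟩

end Perm

/-- the inverse of the Cartan matrix -/
def inv2 : Fin 2 → Fin 2 → ℤ := ![![2, 3], ![1, 2]]

theorem inv2_mul (k i : Fin 2) : ∑ j, inv2 k j * cartanOf chevG2 2 j i = if k = i then 1 else 0 := by
  revert k i
  decide +kernel

variable (K : Type u) [Field K] [Finite K] [CharP K 2]

/-- the automorphisms, up to inner ones, are standard of trivial type -/
theorem hst_G2 (hK : 2 < Nat.card K) (b : MulAut ↥(chevG2.group K)) : ∃ (s : ↥(chevG2.group K)) (σ : Equiv.Perm (Fin 2)),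
    Std CoxeterMatrix.G₂.toCoxeterSystem isType2.isCartan (TT chevG2 K) (XX chevG2 2 K) (MulAut.conj s * b) σ ∧
      σ '' {0} = {0} := by
  have : Fact (Nat.Prime 2) := ⟨Nat.prime_two⟩
  have := finite_W isType2 CoxeterMatrix.G₂.toCoxeterSystem
  have R := rgd (K := K) isType2 CoxeterMatrix.G₂.toCoxeterSystem 2
  obtain ⟨s, σ, hσ⟩ := exists_std_conj R (GG_top isType2 _ (K := K)) b
  refine ⟨s, σ, hσ, ?_⟩
  rw [Set.image_singleton]
  rcases H69.OutGF.perm2 σ with rfl | rfl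
  · rfl
  · exfalso
    have h3 : (3 : K) ≠ 0 := by
      have h1 : (2 : K) = 0 := CharTwo.two_eq_zero
      have : (3 : K) = 1 := by
        have : (3 : K) = 2 + 1 := by norm_num
        rw [this, h1, zero_add]
      rw [this]
      exact one_ne_zero
    exact H69.OutGF.flip2_not_mem h3 hK ⟨_, perm_of_diag hσ.diag⟩

theorem exists_dat2 : ∃ Φ : ↥(PJ CoxeterMatrix.G₂.toCoxeterSystem isType2.isCartan (TT chevG2 K) (XX chevG2 2 K) {0}) → ℂ,
    Dat CoxeterMatrix.G₂.toCoxeterSystem isType2.isCartan (TT chevG2 K) (XX chevG2 2 K) {0} Φ := by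
  have : Fact (Nat.Prime 2) := ⟨Nat.prime_two⟩
  have : Fintype SL(2, K) := Fintype.ofFinite _
  have := finite_W isType2 CoxeterMatrix.G₂.toCoxeterSystem
  have R := rgd (K := K) isType2 CoxeterMatrix.G₂.toCoxeterSystem 2
  have hG := GG_top isType2 CoxeterMatrix.G₂.toCoxeterSystem (K := K)
  obtain ⟨φ, N, -⟩ := exists_node_act (K := K) isType2 CoxeterMatrix.G₂.toCoxeterSystem 0
  obtain ⟨π, P⟩ := exists_proj (J := {0}) R N rfl (fun i _ j hj => absurd hj.1 hj.2)
    (torus_inner isType2 CoxeterMatrix.G₂.toCoxeterSystem 0)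
  obtain ⟨η, E⟩ := exists_etaP K
  exact ⟨_, dat_one R hG P E⟩

/-- **`G₂(q)`, `q > 2` even.** -/
theorem row2_G2 (hK : 2 < Nat.card K) : Row2 ↥(chevG2.group K) := by
  have hK' : ∃ a a' : K, a ≠ 0 ∧ a ≠ 1 ∧ a' ≠ 0 ∧ a' ≠ 1 ∧ a ≠ a' := by
    classical
    have : Fintype K := Fintype.ofFinite K
    rw [Nat.card_eq_fintype_card] at hK
    obtain ⟨k, -, hk⟩ := FiniteField.card K 2
    have h4 : 4 ≤ Fintype.card K := by
      rw [hk] at hK ⊢
      have h2 : 2 ≤ (k : ℕ) := by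
        by_contra hcon
        have h3 : (k : ℕ) ≤ 1 := by omega
        have := Nat.pow_le_pow_right (n := 2) (by norm_num) h3
        omega
      exact Nat.pow_le_pow_right (n := 2) (by norm_num) h2
    have h5 : 2 ≤ (((Finset.univ : Finset K).erase 0).erase 1).card := by
      rw [Finset.card_erase_of_mem (by simp), Finset.card_erase_of_mem (by simp), Finset.card_univ]
      omega
    obtain ⟨a, ha, b, hb, hab⟩ := Finset.one_lt_card.1 h5
    simp only [Finset.mem_erase, Finset.mem_univ, and_true] at ha hb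
    exact ⟨a, b, ha.2, ha.1, hb.2, hb.1, hab⟩
  obtain ⟨Φ, H⟩ := exists_dat2 K
  exact row2_chev isType2 inv2 inv2_mul (commGen_G2 K hK') H (hst_G2 K hK)

/-- the row -/
theorem row_g2 {X : Type} [Group X] [Finite X] {F : Type} [Field F] [Fintype F] [CharP F 2] (hF : 3 ≤ Fintype.card F)
    (e : X ≃* ↥(chevG2.group F)) : Row2 X :=
  H776.CY.Row2.congr e (row2_G2 F (by rw [Nat.card_eq_fintype_card]; omega))

end Cfsg.Agent.H310.R2
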