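import Cfsg.Agent.H706.Gow.TwoNodes
import Cfsg.Agent.H554.RG
import Cfsg.Agent.H641.Gow.Rgd

/-!
# S4829, `Row2`, `q` even: the projections of `P_J` on the rank one groups (helper310)

`J` a set of nodes, `i ∈ J` orthogonal to `J \ {i}`, `φ : SL₂(F) → Y` the node homomorphism (`F` of characteristic two).

* `Proj J i φ π` : `π : P_J → SL₂(F)` is a retraction of `φ` which kills `M_{J \ {i}}` and the positive root groups outside `i`;
* `exists_proj`;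
* `Proj.zero_iff` : `(π x)₁₀ = 0 ↔ x ∈ P_{J \ {i}}`; `Proj.one_iff` : `π x = 1` iff all conjugates are in `P_{J \ {i}}`;
* `Proj.orderOf_std` : standard automorphisms preserve the order of the projection.
-/

set_option autoImplicit false
set_option linter.unusedSectionVars false

open scoped ComplexConjugate MatrixGroups
open Cfsg

namespace Cfsg.Agent.H310.R2

open Cfsg.Agent.H53.HC Cfsg.Agent.H497.Gow Cfsg.Agent.H554.RG Cfsg.Agent.KFacts.RgdAut Cfsg.Agent.KFacts.RgdDiag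

open CoxeterSystem Cfsg.Agent.ChevalleyStructure.CoxeterGeom Cfsg.Agent.Tits.Roots Cfsg.Agent.Tits.Core
  Cfsg.Agent.Tits.Exchange Cfsg.Agent.Nodes.Reps Cfsg.Agent.Nodes.BNOf Cfsg.Agent.Nodes.StabComb
  Cfsg.Agent.Nodes.Bruhat Cfsg.Agent.Nodes.OppDec Cfsg.Agent.Nodes.LeviDec Cfsg.Agent.H627.Gow
open Cfsg.Agent.KFacts.RgdChevCoord (sx sy eq_of_zero eq_of_ne_zero)

section mat

variable {F : Type*} [Field F]

/-- the upper triangular matrices -/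
def Bor (F : Type*) [Field F] : Subgroup SL(2, F) where
  carrier := {g | g.1 1 0 = 0}
  one_mem' := by
    change (1 : Matrix (Fin 2) (Fin 2) F) 1 0 = 0
    simp
  mul_mem' := by
    intro a b ha hb
    change ((a : Matrix (Fin 2) (Fin 2) F) * (b : Matrix (Fin 2) (Fin 2) F)) 1 0 = 0
    have ha' : a.1 1 0 = 0 := ha
    have hb' : b.1 1 0 = 0 := hb
    rw [Matrix.mul_apply, Fin.sum_univ_two, ha', hb']
    ring
  inv_mem' := by
    intro a ha
    have ha' : a.1 1 0 = 0 := ha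
    change ((a⁻¹ : SL(2, F)) : Matrix (Fin 2) (Fin 2) F) 1 0 = 0
    rw [Matrix.SpecialLinearGroup.coe_inv, Matrix.adjugate_fin_two]
    simp [ha']

theorem mem_Bor {g : SL(2, F)} : g ∈ Bor F ↔ g.1 1 0 = 0 := Iff.rfl

theorem eq_one_of_conj [CharP F 2] {g : SL(2, F)} (hg : ∀ y : SL(2, F), y * g * y⁻¹ ∈ Bor F) : g = 1 := by
  have h1 : g.1 1 0 = 0 := by
    have := mem_Bor.1 (hg 1)
    rwa [one_mul, inv_one, mul_one] at this
  have hd := g.2
  rw [Matrix.det_fin_two, h1, mul_zero, sub_zero] at hd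
  -- the antidiagonal element
  let w : SL(2, F) := ⟨!![0, 1; -1, 0], by simp [Matrix.det_fin_two]⟩
  have h2 : g.1 0 1 = 0 := by
    have h3 := mem_Bor.1 (hg w)
    change ((w : Matrix (Fin 2) (Fin 2) F) * (g : Matrix (Fin 2) (Fin 2) F) *
      ((w⁻¹ : SL(2, F)) : Matrix (Fin 2) (Fin 2) F)) 1 0 = 0 at h3
    rw [Matrix.SpecialLinearGroup.coe_inv, Matrix.adjugate_fin_two] at h3
    simp only [Matrix.mul_apply, Fin.sum_univ_two] at h3
    simp [w] at h3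
    exact h3
  have h3 : g.1 0 0 = g.1 1 1 := by
    have h4 := mem_Bor.1 (hg (sy 1))
    change (((sy 1 : SL(2, F)) : Matrix (Fin 2) (Fin 2) F) * (g : Matrix (Fin 2) (Fin 2) F) *
      ((((sy 1 : SL(2, F)))⁻¹ : SL(2, F)) : Matrix (Fin 2) (Fin 2) F)) 1 0 = 0 at h4
    rw [Matrix.SpecialLinearGroup.coe_inv, Matrix.adjugate_fin_two] at h4
    simp only [Matrix.mul_apply, Fin.sum_univ_two] at h4
    have h1' : (g : Matrix (Fin 2) (Fin 2) F) 1 0 = 0 := h1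
    have h2' : (g : Matrix (Fin 2) (Fin 2) F) 0 1 = 0 := h2
    rw [h1', h2'] at h4
    simp [sy] at h4
    have h5 : (g : Matrix (Fin 2) (Fin 2) F) 0 0 - (g : Matrix (Fin 2) (Fin 2) F) 1 1 = 0 := by
      linear_combination h4
    exact sub_eq_zero.1 h5
  have h4 : g.1 1 1 = 1 := by
    rw [h3] at hd
    rcases mul_self_eq_one_iff.1 hd with h5 | h5
    · exact h5
    · rw [h5, CharTwo.neg_eq]
  apply Subtype.ext
  rw [Matrix.eta_fin_two g.1, h1, h2, h3, h4, Matrix.SpecialLinearGroup.coe_one, Matrix.one_fin_two]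

end mat

variable {I W Y : Type*} [Fintype I] [DecidableEq I] [Group W] [Group Y] {M : CoxeterMatrix I}
  {cs : CoxeterSystem M W} {A : I → I → ℤ} {h : IsCartan M A} {p : ℕ} {T : Subgroup Y} {n : I → Y}
  {X : (I → ℤ) → Subgroup Y} {F : Type*} [Field F]

/-- **The projection of `P_J` on the rank one group of the node `i`.** -/
structure Proj (cs : CoxeterSystem M W) (h : IsCartan M A) (T : Subgroup Y) (X : (I → ℤ) → Subgroup Y) (J : Set I)
    (i : I) (φ : SL(2, F) →* Y) (π : ↥(PJ cs h T X J) →* SL(2, F)) : Prop where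
  node : Node X i φ
  mem : i ∈ J
  fix : ∀ g, ∃ hg : φ g ∈ LJ cs h T X J, π ⟨φ g, LJ_le_PJ hg⟩ = g
  kill : ∀ v ∈ RGD.Sup X (NotJ cs h {i}), ∃ hv : v ∈ PJ cs h T X J, π ⟨v, hv⟩ = 1
  killM : ∀ m ∈ MJ cs h X (J \ {i}), ∃ hm : m ∈ PJ cs h T X J, π ⟨m, hm⟩ = 1

theorem exists_proj_aux [Finite W] [CharP F 2] (R : RGD cs h p T n X) {i : I} {φ : SL(2, F) →* Y} (N : Node X i φ)
    {K' J : Set I} (hJ : {i} ∪ K' = J) (ho : Orth A {i} K')
    (hin : ∀ t ∈ T, ∃ a ∈ MJ cs h X {i}, ∀ m ∈ MJ cs h X {i}, t * m * t⁻¹ = a * m * a⁻¹) :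
    ∃ π : ↥(PJ cs h T X J) →* SL(2, F), (∀ g, ∃ hg : φ g ∈ LJ cs h T X J, π ⟨φ g, LJ_le_PJ hg⟩ = g) ∧
      (∀ v ∈ RGD.Sup X (NotJ cs h {i}), ∃ hv : v ∈ PJ cs h T X J, π ⟨v, hv⟩ = 1) ∧
      ∀ m ∈ MJ cs h X K', ∃ hm : m ∈ PJ cs h T X J, π ⟨m, hm⟩ = 1 := by
  subst hJ
  obtain ⟨c, hc⟩ := exists_ret R ho N.cen hin
  let e : SL(2, F) ≃* MJ cs h X {i} := N.equiv cs h
  have he : ∀ g, ((e g : MJ cs h X {i}) : Y) = φ g := fun g => rfl
  refine ⟨e.symm.toMonoidHom.comp c, fun g => ?_, fun v hv => ?_, fun m hm => ?_⟩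
  · have hg : φ g ∈ MJ cs h X {i} := by rw [← N.range]; exact ⟨g, rfl⟩
    refine ⟨MJ_le_LJ _ (MJ_mono Set.subset_union_left hg), ?_⟩
    rw [MonoidHom.comp_apply]
    have h1 := hc.fix (φ g) hg
    rw [h1]
    change e.symm ⟨φ g, hg⟩ = g
    rw [MulEquiv.symm_apply_eq]
    exact Subtype.ext (he g).symm
  · obtain ⟨hy, h1⟩ := Ret.mem_kerc.1 (hc.NotJ_le ho hv)
    exact ⟨hy, by rw [MonoidHom.comp_apply, h1, map_one]⟩
  · exact ⟨MJ_le_right hm, by rw [MonoidHom.comp_apply, hc.killM m hm, map_one]⟩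

/-- **The projection exists.** -/
theorem exists_proj [Finite W] [CharP F 2] (R : RGD cs h p T n X) {i : I} {φ : SL(2, F) →* Y} (N : Node X i φ)
    {J : Set I} (hi : i ∈ J) (ho : Orth A {i} (J \ {i}))
    (hin : ∀ t ∈ T, ∃ a ∈ MJ cs h X {i}, ∀ m ∈ MJ cs h X {i}, t * m * t⁻¹ = a * m * a⁻¹) :
    ∃ π : ↥(PJ cs h T X J) →* SL(2, F), Proj cs h T X J i φ π := by
  obtain ⟨π, h1, h2, h3⟩ := exists_proj_aux (J := J) R N
    (Set.union_sdiff_cancel (Set.singleton_subset_iff.2 hi)) ho hin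
  exact ⟨π, N, hi, h1, h2, h3⟩

namespace Proj

variable {J : Set I} {i : I} {φ : SL(2, F) →* Y} {π : ↥(PJ cs h T X J) →* SL(2, F)} (P : Proj cs h T X J i φ π)

include P

theorem surj : Function.Surjective π := fun g => by
  obtain ⟨hg, e⟩ := P.fix g
  exact ⟨_, e⟩

variable (R : RGD cs h p T n X)

include R

/-- the torus -/
theorem map_T {t : Y} (ht : t ∈ T) (ht' : t ∈ PJ cs h T X J) : π ⟨t, ht'⟩ ∈ Bor F := by
  obtain ⟨g1, e1⟩ := P.fix (sx 1)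
  have hx : φ (sx 1) ∈ X (sr i) := (P.node.up _).2 ⟨1, rfl⟩
  have h1 : t * φ (sx 1) * t⁻¹ ∈ X (sr i) := by
    have := R.tor (sr i) (isRoot_sr cs h i) t ht
    rw [← this]
    exact conj_mem_cj.2 hx
  obtain ⟨u, hu⟩ := (P.node.up _).1 h1
  obtain ⟨g2, e2⟩ := P.fix (sx u)
  have h2 : (⟨φ (sx u), LJ_le_PJ g2⟩ : ↥(PJ cs h T X J)) = ⟨t, ht'⟩ * ⟨φ (sx 1), LJ_le_PJ g1⟩ * ⟨t, ht'⟩⁻¹ :=
    Subtype.ext hu
  rw [h2, map_mul, map_mul, map_inv, e1] at e2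
  have h3 : π ⟨t, ht'⟩ * sx 1 = sx u * π ⟨t, ht'⟩ := by rw [← e2]; group
  rw [mem_Bor]
  have h4 := congrFun (congrFun (congrArg Subtype.val h3) 1) 1
  rw [Matrix.SpecialLinearGroup.coe_mul, Matrix.SpecialLinearGroup.coe_mul] at h4
  simp [sx, Matrix.mul_apply, Fin.sum_univ_two] at h4
  exact h4

omit R in
omit P in
theorem posNe_subset (i : I) : RGD.PosNe cs h i ⊆ NotJ cs h {i} := by
  rintro x ⟨hx, h0, hne⟩
  rcases mem_PosJ_or_NotJ {i} hx h0 with h1 | h1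
  · exfalso
    rcases rootsJ_single (PosJ_subset _ h1) with h2 | h2
    · exact hne h2
    · have h3 := h0 i
      rw [h2, Pi.neg_apply, sr_self, Pi.zero_apply] at h3
      have h4 : (0 : ℤ) ≤ -1 := h3
      omega
  · exact h1

/-- the Borel subgroup -/
theorem map_B {b : Y} (hb : b ∈ RGD.B cs h T X) (hb' : b ∈ PJ cs h T X J) : π ⟨b, hb'⟩ ∈ Bor F := by
  obtain ⟨v, hv, u, hu, t, ht, rfl⟩ := R.mem_B' i hb
  obtain ⟨hv', e1⟩ := P.kill v (RGD.Sup_mono (posNe_subset i) hv)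
  obtain ⟨a, rfl⟩ := (P.node.up u).1 hu
  obtain ⟨g1, e2⟩ := P.fix (sx a)
  have ht' : t ∈ PJ cs h T X J := LJ_le_PJ (T_le_LJ ht)
  have e3 : (⟨v * φ (sx a) * t, hb'⟩ : ↥(PJ cs h T X J)) =
      (⟨v, hv'⟩ : ↥(PJ cs h T X J)) * (⟨φ (sx a), LJ_le_PJ g1⟩ : ↥(PJ cs h T X J)) * (⟨t, ht'⟩ : ↥(PJ cs h T X J)) := rfl
  rw [e3, map_mul, map_mul, e1, e2, one_mul]
  exact mul_mem (show (sx a : SL(2, F)) ∈ Bor F from rfl) (P.map_T R ht ht')

theorem n_mem [Finite W] {k : I} (hk : k ∈ J) (hki : k ≠ i) (hn : n k ∈ PJ cs h T X J) : π ⟨n k, hn⟩ ∈ Bor F := by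
  have h1 : n k ∈ LJ cs h T X (J \ {i}) :=
    rp_mem_LJ R (simple_mem_WJ cs (show k ∈ J \ {i} from ⟨hk, hki⟩)) (rp_simple cs R.nsys k)
  obtain ⟨t, ht, m, hm, e⟩ := (mem_LJ_iff_mul R _).1 h1
  obtain ⟨hm', e1⟩ := P.killM m hm
  have ht' : t ∈ PJ cs h T X J := LJ_le_PJ (T_le_LJ ht)
  have e2 : (⟨n k, hn⟩ : ↥(PJ cs h T X J)) = ⟨t, ht'⟩ * ⟨m, hm'⟩ := Subtype.ext e
  rw [e2, map_mul, e1, mul_one]
  exact P.map_T R ht ht'

/-- **the preimage of the Borel subgroup** -/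
theorem zero_iff [Finite W] (hG : GG cs h T X = ⊤) (x : ↥(PJ cs h T X J)) :
    π x ∈ Bor F ↔ (x : Y) ∈ PJ cs h T X (J \ {i}) := by
  let H : Subgroup Y := ((Bor F).comap π).map (Subgroup.subtype _)
  have hH : ∀ y : Y, y ∈ H ↔ ∃ hy : y ∈ PJ cs h T X J, π ⟨y, hy⟩ ∈ Bor F := by
    intro y
    constructor
    · rintro ⟨z, hz, rfl⟩
      exact ⟨z.2, hz⟩
    · rintro ⟨hy, h1⟩
      exact ⟨⟨y, hy⟩, h1, rfl⟩
  have hB : RGD.B cs h T X ≤ H := fun b hb => (hH b).2 ⟨B_le_PJ hb, P.map_B R hb (B_le_PJ hb)⟩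
  have h1 := eq_PJ R hG hB
  have h2 : {k | n k ∈ H} = J \ {i} := by
    ext k
    constructor
    · intro hk
      obtain ⟨hk', h3⟩ := (hH _).1 hk
      refine ⟨(n_mem_PJ_iff R).1 hk', ?_⟩
      rintro rfl
      -- `X (-sr k)` would be in `H`
      have h4 : φ (sy 1) ∈ X (-sr k) := (P.node.dn _).2 ⟨1, rfl⟩
      have h5 : cj (n k) (X (sr k)) = X (-sr k) := by
        rw [R.conj k _ (isRoot_sr cs h k), rep_simple_sr]
      rw [← h5, mem_cj] at h4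
      have h6 : (n k)⁻¹ * φ (sy 1) * n k ∈ H := hB (RGD.X_le_B (isRoot_sr cs h k) (sr_nonneg k) h4)
      have h7 : φ (sy 1) ∈ H := by
        have e : φ (sy 1) = n k * ((n k)⁻¹ * φ (sy 1) * n k) * (n k)⁻¹ := by group
        rw [e]
        exact mul_mem (mul_mem hk h6) (inv_mem hk)
      obtain ⟨h8, h9⟩ := (hH _).1 h7
      obtain ⟨h10, h11⟩ := P.fix (sy 1)
      rw [h11] at h9
      have h12 : (1 : F) = 0 := h9
      exact one_ne_zero h12
    · rintro ⟨hk, hki⟩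
      have h3 : n k ∈ PJ cs h T X J := (n_mem_PJ_iff R).2 hk
      exact (hH _).2 ⟨h3, P.n_mem R hk hki h3⟩
  rw [h2] at h1
  rw [← h1, hH]
  exact ⟨fun hx => ⟨x.2, hx⟩, fun ⟨_, hx⟩ => hx⟩

/-- **the kernel of the projection** -/
theorem one_iff [Finite W] [CharP F 2] (hG : GG cs h T X = ⊤) (x : ↥(PJ cs h T X J)) :
    π x = 1 ↔ ∀ y ∈ PJ cs h T X J, y * (x : Y) * y⁻¹ ∈ PJ cs h T X (J \ {i}) := by
  constructor
  · intro hx y hy
    have h1 := (P.zero_iff R hG (⟨y, hy⟩ * x * ⟨y, hy⟩⁻¹)).1 (by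
      rw [map_mul, map_mul, map_inv, hx, mul_one, mul_inv_cancel]
      exact one_mem _)
    exact h1
  · intro hx
    refine eq_one_of_conj fun g => ?_
    obtain ⟨y, rfl⟩ := P.surj g
    have h1 := (P.zero_iff R hG (y * x * y⁻¹)).2 (hx y y.2)
    rwa [map_mul, map_mul, map_inv] at h1

/-- **standard automorphisms preserve the order of the projection** -/
theorem orderOf_std [Finite W] [CharP F 2] (hG : GG cs h T X = ⊤) {β : MulAut Y} {σ : Equiv.Perm I}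
    (D : Std cs h T X β σ) (hJ : σ '' J = J) {F' : Type*} [Field F'] [CharP F' 2] {φ' : SL(2, F') →* Y}
    {π' : ↥(PJ cs h T X J) →* SL(2, F')} (P' : Proj cs h T X J (σ i) φ' π') {x : Y} (hx : x ∈ PJ cs h T X J)
    (hx' : β x ∈ PJ cs h T X J) : orderOf (π' ⟨β x, hx'⟩) = orderOf (π ⟨x, hx⟩) := by
  have hβ : ∀ K : Set I, ∀ y, β y ∈ PJ cs h T X (σ '' K) ↔ y ∈ PJ cs h T X K := by
    intro K y
    rw [← map_PJ R hG D K]
    constructor
    · rintro ⟨z, hz, e⟩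
      have : z = y := β.injective e
      rwa [← this]
    · intro hy
      exact ⟨y, hy, rfl⟩
  have hJ2 : σ '' (J \ {i}) = J \ {σ i} := by
    rw [Set.image_sdiff σ.injective, hJ, Set.image_singleton]
  have key : ∀ z (hz : z ∈ PJ cs h T X J) (hz' : β z ∈ PJ cs h T X J), π' ⟨β z, hz'⟩ = 1 ↔ π ⟨z, hz⟩ = 1 := by
    intro z hz hz'
    rw [P.one_iff R hG, P'.one_iff R hG]
    constructor
    · intro h1 y hy
      have h2 := h1 (β y) (by have := (hβ J y).2 hy; rwa [hJ] at this)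
      have h3 : β y * β z * (β y)⁻¹ = β (y * z * y⁻¹) := by rw [map_mul, map_mul, map_inv]
      have h4 : β (y * z * y⁻¹) ∈ PJ cs h T X (σ '' (J \ {i})) := by
        rw [hJ2, ← h3]
        exact h2
      exact (hβ _ _).1 h4
    · intro h1 y hy
      obtain ⟨y', rfl⟩ := β.surjective y
      have hy' : y' ∈ PJ cs h T X J := (hβ J y').1 (by rw [hJ]; exact hy)
      have h2 := (hβ _ _).2 (h1 y' hy')
      rw [hJ2] at h2
      have h3 : β y' * β z * (β y')⁻¹ = β (y' * z * y'⁻¹) := by rw [map_mul, map_mul, map_inv]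
      change β y' * β z * (β y')⁻¹ ∈ _
      rw [h3]
      exact h2
  rw [orderOf_eq_orderOf_iff]
  intro m
  rw [← map_pow, ← map_pow]
  have hm : β (x ^ m) ∈ PJ cs h T X J := by rw [map_pow]; exact pow_mem hx' m
  have e1 : (⟨β x, hx'⟩ : ↥(PJ cs h T X J)) ^ m = ⟨β (x ^ m), hm⟩ := Subtype.ext (map_pow β x m).symm
  have e2 : (⟨x, hx⟩ : ↥(PJ cs h T X J)) ^ m = ⟨x ^ m, pow_mem hx m⟩ := rfl
  rw [e1, e2]
  exact key _ _ _

end Proj

end Cfsg.Agent.H310.R2
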