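import Cfsg.Agent.H310.R2.F4

/-!
# S4829, `Row2`, `F₄(q)`, `q` even: the induced function of the nodes `0`, `3` is fixed by all automorphisms (helper310)

`hst_F4`, `psi_inv` : all `q` even, `q = 2` included.
-/

set_option autoImplicit false

open Cfsg

namespace Cfsg.Agent.H310.R2

open Cfsg.Agent.H770.CY Cfsg.Agent.H554.RG Cfsg.Agent.H53.HC
open Cfsg.Lie Cfsg.Agent.Nodes.RGDChev Cfsg.Agent.Nodes.RGDLib
open CoxeterSystem Cfsg.Agent.ChevalleyStructure.CoxeterGeom Cfsg.Agent.ChevalleyStructure.CoxeterGeomTypes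
open Cfsg.Agent.Tits.Roots Cfsg.Agent.Tits.Core Cfsg.Agent.Nodes.Reps Cfsg.Agent.Nodes.BNOf Cfsg.Agent.Nodes.Bruhat
  Cfsg.Agent.Nodes.LeviDec Cfsg.Agent.H706.Gow Cfsg.Agent.H497.Gow
open Cfsg.Agent.H627.Gow Cfsg.Agent.H636.Gow Cfsg.Agent.H650.GowChev Cfsg.Agent.BpExc.TorChev
  Cfsg.Agent.KFacts.RgdChevCoord Cfsg.Agent.KFacts.RgdField
open scoped MatrixGroups

variable (K : Type*) [Field K] [Finite K] [CharP K 2]

/-- every automorphism is, up to an inner one, standard with a type fixing `{0, 3}` -/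
theorem hst_F4 (b : MulAut ↥(chevF4.group K)) : ∃ (s : ↥(chevF4.group K)) (σ : Equiv.Perm (Fin 4)),
    Std CoxeterMatrix.F₄.toCoxeterSystem isType4.isCartan (TT chevF4 K) (XX chevF4 4 K) (MulAut.conj s * b) σ ∧
      σ '' ({0} ∪ {3}) = {0} ∪ {3} := by
  have : Fact (Nat.Prime 2) := ⟨Nat.prime_two⟩
  have := finite_W isType4 CoxeterMatrix.F₄.toCoxeterSystem
  have R := rgd (K := K) isType4 CoxeterMatrix.F₄.toCoxeterSystem 2
  obtain ⟨s, σ, hσ⟩ := exists_std_conj R (GG_top isType4 _ (K := K)) b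
  exact ⟨s, σ, hσ, sym_F4 σ fun i j => KFacts.RgdDiag.Diag.matrix (R := R) hσ.diag i j⟩

/-- **the induced function of `η(π₀) η(π₃)` is fixed by all automorphisms** -/
theorem psi_inv [Fintype ↥(chevF4.group K)] [Fintype SL(2, K)] {φ₁ φ₂ : SL(2, K) →* ↥(chevF4.group K)}
    {π₁ π₂ : ↥(PJ CoxeterMatrix.F₄.toCoxeterSystem isType4.isCartan (TT chevF4 K) (XX chevF4 4 K) ({0} ∪ {3})) →* SL(2, K)}
    (P₁ : Proj CoxeterMatrix.F₄.toCoxeterSystem isType4.isCartan (TT chevF4 K) (XX chevF4 4 K) ({0} ∪ {3}) 0 φ₁ π₁)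
    (P₂ : Proj CoxeterMatrix.F₄.toCoxeterSystem isType4.isCartan (TT chevF4 K) (XX chevF4 4 K) ({0} ∪ {3}) 3 φ₂ π₂)
    {η : SL(2, K) → ℂ} (E : EtaP K η) (b : MulAut ↥(chevF4.group K)) (g : ↥(chevF4.group K)) :
    indFun (PJ CoxeterMatrix.F₄.toCoxeterSystem isType4.isCartan (TT chevF4 K) (XX chevF4 4 K) ({0} ∪ {3}))
        (fun x => η (π₁ x) * η (π₂ x)) (b g) =
      indFun (PJ CoxeterMatrix.F₄.toCoxeterSystem isType4.isCartan (TT chevF4 K) (XX chevF4 4 K) ({0} ∪ {3}))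
        (fun x => η (π₁ x) * η (π₂ x)) g := by
  have : Fact (Nat.Prime 2) := ⟨Nat.prime_two⟩
  have := finite_W isType4 CoxeterMatrix.F₄.toCoxeterSystem
  have R := rgd (K := K) isType4 CoxeterMatrix.F₄.toCoxeterSystem 2
  have hG := GG_top isType4 CoxeterMatrix.F₄.toCoxeterSystem (K := K)
  exact ind_inv R hG (dat_two R hG orth_03 rfl P₁ P₂ E) b (hst_F4 K b) g

end Cfsg.Agent.H310.R2
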